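import Groth.Prelude.Def_Exal
import Groth.Prelude.Def_Exal2
import Mathlib.RingTheory.Derivation.Basic

/-! Calculus of square-zero extensions: sections, derivations, change of the structure map. -/

universe u u' v w

namespace GrothLib.ExalLib

open Exal

variable {A : Type u} {B L : Type v} [CommRing A] [CommRing B] [Algebra A B] [AddCommGroup L] [Module B L]
  (X Y : Ext A B L)

theorem proj_incl (z : L) : X.proj (X.incl z) = 0 := (X.isExtension.exact _).2 ⟨z, rfl⟩

theorem exists_incl {x : X.E} (hx : X.proj x = 0) : ∃ z, X.incl z = x := (X.isExtension.exact x).1 hx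

theorem incl_mul_incl (z z' : L) : X.incl z * X.incl z' = 0 := by
  rw [X.isExtension.mul_incl, proj_incl, zero_smul, map_zero]

theorem incl_smul [Module A L] [IsScalarTower A B L] (a : A) (z : L) : X.incl (a • z) = a • X.incl z := by
  rw [Algebra.smul_def, X.isExtension.mul_incl, AlgHom.commutes, algebraMap_smul]

/-- A morphism of extensions is an equivalence. -/
noncomputable def equivOfHom (φ : X.E →ₐ[A] Y.E) (hp : ∀ x, Y.proj (φ x) = X.proj x)
    (hi : ∀ z, φ (X.incl z) = Y.incl z) : X.Equiv Y where
  toAlgEquiv := AlgEquiv.ofBijective φ (by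
    refine ⟨(injective_iff_map_eq_zero φ).2 fun x hx => ?_, fun y => ?_⟩
    · obtain ⟨z, rfl⟩ := exists_incl X (x := x) (by rw [← hp, hx, map_zero])
      rw [hi] at hx
      rw [(injective_iff_map_eq_zero Y.incl).1 Y.isExtension.incl_injective z hx, map_zero]
    · obtain ⟨x, hx⟩ := X.isExtension.proj_surjective (Y.proj y)
      obtain ⟨z, hz⟩ := exists_incl Y (x := y - φ x) (by rw [map_sub, hp, hx, sub_self])
      exact ⟨x + X.incl z, by rw [map_add, hi, hz, add_sub_cancel]⟩)
  proj_apply := hp
  apply_incl := hi

/-- Two extensions with sections are equivalent, compatibly with the sections. -/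
theorem exists_equiv_of_sections (s : B →ₐ[A] X.E) (hs : ∀ b, X.proj (s b) = b) (t : B →ₐ[A] Y.E)
    (ht : ∀ b, Y.proj (t b) = b) :
    ∃ e : X.Equiv Y, ∀ b z, e.toAlgEquiv (s b + X.incl z) = t b + Y.incl z := by
  have hd : ∀ x, ∃ z, X.incl z = x - s (X.proj x) := fun x => exists_incl X (by rw [map_sub, hs, sub_self])
  choose δ hδ using hd
  have key : ∀ x b z, x = s b + X.incl z → X.proj x = b ∧ δ x = z := by
    rintro x b z rfl
    have h : X.proj (s b + X.incl z) = b := by rw [map_add, hs, proj_incl, add_zero]
    refine ⟨h, X.isExtension.incl_injective ?_⟩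
    rw [hδ, h, add_sub_cancel_left]
  have form : ∀ x, x = s (X.proj x) + X.incl (δ x) := fun x => by rw [hδ, add_sub_cancel]
  let f : X.E → Y.E := fun x => t (X.proj x) + Y.incl (δ x)
  have hf : ∀ b z, f (s b + X.incl z) = t b + Y.incl z := fun b z => by
    obtain ⟨h1, h2⟩ := key _ b z rfl
    simp only [f, h1, h2]
  have hf0 : ∀ b, f (s b) = t b := fun b => by simpa using hf b 0
  let φ : X.E →ₐ[A] Y.E :=
    { toFun := f
      map_one' := by rw [← map_one s, hf0, map_one]
      map_zero' := by rw [← map_zero s, hf0, map_zero]
      commutes' := fun a => by rw [← s.commutes, hf0, t.commutes]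
      map_add' := fun x y => by
        have h1 : x + y = s (X.proj x + X.proj y) + X.incl (δ x + δ y) :=
          (congrArg₂ (· + ·) (form x) (form y)).trans (by
            rw [map_add, map_add]; exact add_add_add_comm ..)
        rw [h1, hf, map_add, map_add]
        exact add_add_add_comm ..
      map_mul' := fun x y => by
        have h1 : x * y = s (X.proj x * X.proj y) + X.incl (X.proj x • δ y + X.proj y • δ x) := by
          refine (congrArg₂ (· * ·) (form x) (form y)).trans ?_
          rw [add_mul, mul_add, mul_add, incl_mul_incl, add_zero, ← map_mul s, X.isExtension.mul_incl, hs,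
            mul_comm (X.incl _) (s _), X.isExtension.mul_incl, hs, map_add, ← add_assoc]
        rw [h1, hf]
        simp only [f]
        rw [add_mul, mul_add, mul_add, incl_mul_incl, add_zero, ← map_mul t, Y.isExtension.mul_incl, ht,
          mul_comm (Y.incl _) (t _), Y.isExtension.mul_incl, ht, map_add, ← add_assoc] }
  have hproj : ∀ x, Y.proj (φ x) = X.proj x := fun x => by
    change Y.proj (t (X.proj x) + Y.incl (δ x)) = _
    rw [map_add, ht, proj_incl, add_zero]
  have hincl : ∀ z, φ (X.incl z) = Y.incl z := fun z => by
    change f _ = _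
    simpa using hf 0 z
  exact ⟨equivOfHom X Y φ hproj hincl, hf⟩

section Derivations

variable {P : Type w} [CommRing P] [Algebra A P] [Algebra P B] [IsScalarTower A P B] [Module P L]
  [IsScalarTower P B L] [Module A L] [IsScalarTower A B L]

/-- Two lifts of `P → B` differ by a derivation. -/
theorem exists_derivation (f g : P →ₐ[A] X.E) (hf : ∀ p, X.proj (f p) = algebraMap P B p)
    (hg : ∀ p, X.proj (g p) = algebraMap P B p) :
    ∃ D : Derivation A P L, ∀ p, f p = g p + X.incl (D p) := by
  have hd : ∀ p, ∃ z, X.incl z = f p - g p := fun p => exists_incl X (by rw [map_sub, hf, hg, sub_self])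
  choose δ hδ using hd
  have hinj := X.isExtension.incl_injective
  let D : Derivation A P L := Derivation.mk'
    { toFun := δ
      map_add' := fun p q => hinj (by rw [map_add, hδ, hδ, hδ, map_add, map_add]; abel)
      map_smul' := fun a p => hinj (by
        rw [RingHom.id_apply, incl_smul, hδ, hδ, map_smul, map_smul, smul_sub]) }
    fun p q => hinj (by
      change X.incl (δ (p * q)) = X.incl (p • δ q + q • δ p)
      rw [map_add, ← algebraMap_smul B p (δ q), ← algebraMap_smul B q (δ p), ← hf p, ← X.isExtension.mul_incl,
        ← hg q, ← X.isExtension.mul_incl, hδ, hδ, hδ, map_mul, map_mul]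
      ring)
  exact ⟨D, fun p => by
    change f p = g p + X.incl (δ p)
    rw [hδ, add_sub_cancel]⟩

/-- A lift plus a derivation is a lift. -/
theorem exists_add_derivation (g : P →ₐ[A] X.E) (hg : ∀ p, X.proj (g p) = algebraMap P B p)
    (D : Derivation A P L) :
    ∃ h : P →ₐ[A] X.E, ∀ p, h p = g p + X.incl (D p) := by
  refine ⟨{ toFun := fun p => g p + X.incl (D p)
            map_one' := by simp
            map_zero' := by simp
            commutes' := fun a => by simp
            map_add' := fun p q => by simp only [map_add]; abel
            map_mul' := fun p q => ?_ }, fun p => rfl⟩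
  rw [Derivation.leibniz, map_add, ← algebraMap_smul B p (D q), ← algebraMap_smul B q (D p), ← hg p, ← hg q,
    ← X.isExtension.mul_incl, ← X.isExtension.mul_incl, map_mul, add_mul, mul_add, mul_add, incl_mul_incl]
  ring

end Derivations

section ReBase

variable {A' : Type u'} [CommRing A'] [Algebra A' B] (g : A' →+* X.E)

/-- The middle ring with another structure map. -/
@[nolint unusedArguments]
def ReCarrier (_g : A' →+* X.E) : Type v := X.E

instance : CommRing (ReCarrier X g) := inferInstanceAs (CommRing X.E)

instance : Algebra A' (ReCarrier X g) := (g : A' →+* ReCarrier X g).toAlgebra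

/-- An extension with another structure map lifting the one of the base. -/
def reBase (hg : ∀ a, X.proj (g a) = algebraMap A' B a) : Ext A' B L where
  E := ReCarrier X g
  proj :=
    { toFun := fun x => X.proj x
      map_one' := map_one X.proj
      map_mul' := map_mul X.proj
      map_zero' := map_zero X.proj
      map_add' := map_add X.proj
      commutes' := hg }
  incl := X.incl
  isExtension :=
    { proj_surjective := X.isExtension.proj_surjective
      incl_injective := X.isExtension.incl_injective
      exact := X.isExtension.exact
      mul_incl := X.isExtension.mul_incl }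

end ReBase

end GrothLib.ExalLib
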