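import Groth.Agent.Lib.ExalLib.Basic
import Groth.Prelude.Def_Exal3
import Mathlib.RingTheory.Kaehler.Basic
import Mathlib.RingTheory.Smooth.Basic
import Mathlib.Algebra.Module.Projective

/-! The characteristic homomorphism of a split extension. -/

universe u v

namespace GrothLib.ExalLib

open Exal TensorProduct

variable {A : Type u} {B C L : Type v} [CommRing A] [CommRing B] [CommRing C] [Algebra A B] [Algebra B C]
  [Algebra A C] [IsScalarTower A B C] [AddCommGroup L] [Module C L] [Module B L] [IsScalarTower B C L]
  [Module A L] [IsScalarTower A C L] [IsScalarTower A B L]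

/-- The linear map on base-changed differentials attached to a derivation. -/
noncomputable def diffMap (D : Derivation A B L) : C ⊗[B] Ω[B⁄A] →ₗ[C] L :=
  D.liftKaehlerDifferential.liftBaseChange C

theorem diffMap_tmul_D (D : Derivation A B L) (c : C) (b : B) :
    diffMap D (c ⊗ₜ[B] KaehlerDifferential.D A B b) = c • D b := by
  rw [diffMap, LinearMap.liftBaseChange_tmul, Derivation.liftKaehlerDifferential_comp_D]

variable (X : Ext B C L)

/-- The section and derivation of an `A`-trivial extension. -/
theorem exists_data (hX : X.IsTrivialOver A) :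
    ∃ (s : C →ₐ[A] X.RestrictCarrier A) (_ : ∀ c, (X.restrictBase A).proj (s c) = c) (D : Derivation A B L),
      ∀ b, algebraMap B X.E b = (show X.E from s (algebraMap B C b)) + X.incl (D b) := by
  obtain ⟨s, hs⟩ := hX
  obtain ⟨D, hD⟩ := exists_derivation (X.restrictBase A) (P := B)
    { toFun := fun b => algebraMap B X.E b
      map_one' := map_one (algebraMap B X.E)
      map_mul' := map_mul (algebraMap B X.E)
      map_zero' := map_zero (algebraMap B X.E)
      map_add' := map_add (algebraMap B X.E)
      commutes' := fun _ => rfl }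
    (s.comp (IsScalarTower.toAlgHom A B C)) (fun b => X.proj.commutes b) (fun b => hs _)
  exact ⟨s, hs, D, hD⟩

/-- The retraction of `deltaL` given by a section, and its value on the image of `B`. -/
theorem exists_retraction (s : C →ₐ[A] X.RestrictCarrier A) (hs : ∀ c, (X.restrictBase A).proj (s c) = c)
    (D : Derivation A B L) (hD : ∀ b, algebraMap B X.E b = (show X.E from s (algebraMap B C b)) + X.incl (D b)) :
    ∃ r : C ⊗[X.CharCarrier A] Ω[X.CharCarrier A⁄A] →+ L,
      (∀ z, r (X.deltaL A z) = z) ∧ ∀ w, r (X.baseChangeToMiddle A w) = diffMap D w := by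
  letI : Module (X.CharCarrier A) L := Module.compHom L (algebraMap (X.CharCarrier A) C)
  haveI : IsScalarTower (X.CharCarrier A) C L := IsScalarTower.of_algebraMap_smul fun _ _ => rfl
  haveI : IsScalarTower A (X.CharCarrier A) L := IsScalarTower.of_algebraMap_smul fun a z => by
    rw [← algebraMap_smul C (algebraMap A (X.CharCarrier A) a), ← IsScalarTower.algebraMap_apply, algebraMap_smul]
  obtain ⟨δ, hδ⟩ := exists_derivation (X.restrictBase A) (P := X.CharCarrier A)
    { toFun := fun x => x
      map_one' := rfl
      map_mul' := fun _ _ => rfl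
      map_zero' := rfl
      map_add' := fun _ _ => rfl
      commutes' := fun _ => rfl }
    (s.comp (IsScalarTower.toAlgHom A (X.CharCarrier A) C)) (fun x => rfl) (fun x => hs _)
  have h1 : ∀ z, δ (X.inclC A z) = z := fun z => by
    refine X.isExtension.incl_injective ?_
    have h : (X.incl z : X.E) = (show X.E from s (X.proj (X.incl z))) + X.incl (δ (X.inclC A z)) := hδ (X.inclC A z)
    rw [proj_incl] at h
    exact (h.trans ((congrArg (fun q : X.E => q + X.incl (δ (X.inclC A z))) (map_zero s)).trans (zero_add _))).symm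
  have h2 : ∀ b, δ (algebraMap B (X.CharCarrier A) b) = D b := fun b => by
    refine X.isExtension.incl_injective ?_
    have h : algebraMap B X.E b =
        (show X.E from s (X.proj (algebraMap B X.E b))) + X.incl (δ (algebraMap B (X.CharCarrier A) b)) :=
      hδ (algebraMap B (X.CharCarrier A) b)
    rw [X.proj.commutes] at h
    exact add_left_cancel (h.symm.trans (hD b))
  refine ⟨(δ.liftKaehlerDifferential.liftBaseChange C).toAddMonoidHom, fun z => ?_, fun w => ?_⟩
  · change δ.liftKaehlerDifferential.liftBaseChange C ((1 : C) ⊗ₜ KaehlerDifferential.D A _ (X.inclC A z)) = z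
    rw [LinearMap.liftBaseChange_tmul, Derivation.liftKaehlerDifferential_comp_D, one_smul, h1]
  · change δ.liftKaehlerDifferential.liftBaseChange C (X.baseChangeToMiddle A w) = _
    induction w using TensorProduct.induction_on with
    | zero => simp only [map_zero]
    | add a b ha hb => simp only [map_add, ha, hb]
    | tmul c ω =>
      change δ.liftKaehlerDifferential.liftBaseChange C
        (c ⊗ₜ[X.CharCarrier A] KaehlerDifferential.map A A B (X.CharCarrier A) ω) = _
      rw [LinearMap.liftBaseChange_tmul, diffMap, LinearMap.liftBaseChange_tmul]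
      congr 1
      have hω : ω ∈ Submodule.span B (Set.range (KaehlerDifferential.D A B)) := by
        rw [KaehlerDifferential.span_range_derivation]; exact Submodule.mem_top
      induction hω using Submodule.span_induction with
      | mem y hy =>
        obtain ⟨y, rfl⟩ := hy
        rw [KaehlerDifferential.map_D, Derivation.liftKaehlerDifferential_comp_D,
          Derivation.liftKaehlerDifferential_comp_D, h2]
      | zero => simp only [map_zero]
      | add a b _ _ ha hb => simp only [map_add, ha, hb]
      | smul b y _ hy =>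
        rw [LinearMap.map_smul, LinearMap.map_smul, ← algebraMap_smul (X.CharCarrier A) b, LinearMap.map_smul, hy,
          ← algebraMap_smul C (algebraMap B (X.CharCarrier A) b), ← IsScalarTower.algebraMap_apply,
          algebraMap_smul]

/-- The characteristic homomorphism is the restriction of the map of the derivation. -/
theorem isCharHom_iff (s : C →ₐ[A] X.RestrictCarrier A) (hs : ∀ c, (X.restrictBase A).proj (s c) = c)
    (D : Derivation A B L) (hD : ∀ b, algebraMap B X.E b = (show X.E from s (algebraMap B C b)) + X.incl (D b))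
    (χ : ↥(EGA41.imperfection A B C) →ₗ[C] L) :
    X.IsCharHom A χ ↔ ∀ z : ↥(EGA41.imperfection A B C), χ z = diffMap D (z : C ⊗[B] Ω[B⁄A]) := by
  obtain ⟨r, hr1, hr2⟩ := exists_retraction X s hs D hD
  refine ⟨fun h z => by rw [← hr1 (χ z), h z, hr2], fun h z => ?_⟩
  have hz : KaehlerDifferential.mapBaseChange A B C (z : C ⊗[B] Ω[B⁄A]) = 0 := z.2
  have hw : ∀ w, KaehlerDifferential.mapBaseChange A (X.CharCarrier A) C (X.baseChangeToMiddle A w) =
      KaehlerDifferential.mapBaseChange A B C w := by
    intro w
    induction w using TensorProduct.induction_on with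
    | zero => simp only [map_zero]
    | add a b ha hb => simp only [map_add, ha, hb]
    | tmul c ω =>
      change KaehlerDifferential.mapBaseChange A (X.CharCarrier A) C
        (c ⊗ₜ[X.CharCarrier A] KaehlerDifferential.map A A B (X.CharCarrier A) ω) = _
      rw [KaehlerDifferential.mapBaseChange_tmul, KaehlerDifferential.mapBaseChange_tmul]
      congr 1
      have hω : ω ∈ Submodule.span B (Set.range (KaehlerDifferential.D A B)) := by
        rw [KaehlerDifferential.span_range_derivation]; exact Submodule.mem_top
      induction hω using Submodule.span_induction with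
      | mem y hy =>
        obtain ⟨y, rfl⟩ := hy
        rw [KaehlerDifferential.map_D, KaehlerDifferential.map_D, KaehlerDifferential.map_D,
          ← IsScalarTower.algebraMap_apply]
      | zero => simp only [map_zero]
      | add a b _ _ ha hb => simp only [map_add, ha, hb]
      | smul b y _ hy =>
        rw [LinearMap.map_smul, LinearMap.map_smul, ← algebraMap_smul (X.CharCarrier A) b, LinearMap.map_smul, hy,
          ← algebraMap_smul C (algebraMap B (X.CharCarrier A) b), ← IsScalarTower.algebraMap_apply,
          algebraMap_smul]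
  obtain ⟨q, hq⟩ := (KaehlerDifferential.exact_kerCotangentToTensor_mapBaseChange A (X.CharCarrier A) C
    X.isExtension.proj_surjective (X.baseChangeToMiddle A z)).1 (by rw [hw, hz])
  obtain ⟨⟨x, hx⟩, rfl⟩ := Ideal.toCotangent_surjective _ q
  rw [KaehlerDifferential.kerCotangentToTensor_toCotangent] at hq
  obtain ⟨l, hl⟩ := exists_incl X (x := (x : X.E)) (RingHom.mem_ker.1 hx)
  have hl' : X.deltaL A l = X.baseChangeToMiddle A z := by
    rw [← hq]
    change (1 : C) ⊗ₜ[X.CharCarrier A] KaehlerDifferential.D A (X.CharCarrier A) (X.inclC A l) = _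
    rw [show (X.inclC A l : X.CharCarrier A) = x from hl]
  have hle : l = χ z := by rw [h z, ← hr2, ← hl', hr1]
  rw [← hle, hl']

/-- Sections with the same derivation give equivalent extensions. -/
theorem exists_equiv_of_data {Y : Ext B C L} (s : C →ₐ[A] X.RestrictCarrier A)
    (hs : ∀ c, (X.restrictBase A).proj (s c) = c)
    (t : C →ₐ[A] Y.RestrictCarrier A) (ht : ∀ c, (Y.restrictBase A).proj (t c) = c) (D : Derivation A B L)
    (hD : ∀ b, algebraMap B X.E b = (show X.E from s (algebraMap B C b)) + X.incl (D b))
    (hD' : ∀ b, algebraMap B Y.E b = (show Y.E from t (algebraMap B C b)) + Y.incl (D b)) :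
    Nonempty (X.Equiv Y) := by
  obtain ⟨e, he⟩ := exists_equiv_of_sections (X.restrictBase A) (Y.restrictBase A) s hs t ht
  exact ⟨equivOfHom X Y
    { toFun := fun x => e.toAlgEquiv x
      map_one' := map_one e.toAlgEquiv
      map_mul' := map_mul e.toAlgEquiv
      map_zero' := map_zero e.toAlgEquiv
      map_add' := map_add e.toAlgEquiv
      commutes' := fun b => (congrArg e.toAlgEquiv (hD b)).trans ((he _ _).trans (hD' b).symm) }
    e.proj_apply e.apply_incl⟩

variable (A B C L) in
/-- The hypothesis under which linear maps on the imperfection module extend. -/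
def ExtendHyp : Prop :=
  Module.Injective C L ∨
    ((∃ r : C ⊗[B] Ω[B⁄A] →ₗ[C] ↥(EGA41.imperfection A B C), ∀ z : ↥(EGA41.imperfection A B C), r z = z) ∧
      ∃ s : Ω[C⁄B] →ₗ[C] Ω[C⁄A], ∀ ω : Ω[C⁄B], KaehlerDifferential.map A B C C (s ω) = ω)

/-- A derivation whose map kills the imperfection module comes from `C`. -/
theorem exists_derivation_comp (h : ExtendHyp A B C L) (D : Derivation A B L)
    (hD : ∀ z : ↥(EGA41.imperfection A B C), diffMap D (z : C ⊗[B] Ω[B⁄A]) = 0) :
    ∃ D' : Derivation A C L, ∀ b, D' (algebraMap B C b) = D b := by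
  let m := KaehlerDifferential.mapBaseChange A B C
  have hle : LinearMap.ker m ≤ LinearMap.ker (diffMap (C := C) D) := fun z hz =>
    LinearMap.mem_ker.2 (hD ⟨z, hz⟩)
  let φ : ↥(LinearMap.range m) →ₗ[C] L :=
    (LinearMap.ker m).liftQ (diffMap D) hle ∘ₗ m.quotKerEquivRange.symm.toLinearMap
  have hφ : ∀ w, φ ⟨m w, LinearMap.mem_range_self m w⟩ = diffMap D w := fun w => by
    change (LinearMap.ker m).liftQ (diffMap D) hle (m.quotKerEquivRange.symm ⟨m w, _⟩) = _
    rw [show m.quotKerEquivRange.symm ⟨m w, LinearMap.mem_range_self m w⟩ = Submodule.Quotient.mk w from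
      (LinearEquiv.symm_apply_eq _).2 rfl]
    rfl
  obtain ⟨g, hg⟩ : ∃ g : Ω[C⁄A] →ₗ[C] L, ∀ y : ↥(LinearMap.range m), g y = φ y := by
    rcases h with hI | ⟨-, s, hs⟩
    · exact hI.out (LinearMap.range m).subtype (LinearMap.range m).injective_subtype φ
    · let p := LinearMap.id - s ∘ₗ KaehlerDifferential.map A B C C
      have hp : ∀ ω, p ω ∈ LinearMap.range m := fun ω =>
        (KaehlerDifferential.exact_mapBaseChange_map A B C (p ω)).1 (by
          change KaehlerDifferential.map A B C C (ω - s (KaehlerDifferential.map A B C C ω)) = 0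
          rw [map_sub, hs, sub_self])
      refine ⟨φ ∘ₗ p.codRestrict _ hp, fun y => congrArg φ (Subtype.ext ?_)⟩
      change (y : Ω[C⁄A]) - s (KaehlerDifferential.map A B C C y) = y
      rw [(KaehlerDifferential.exact_mapBaseChange_map A B C (y : Ω[C⁄A])).2 y.2, map_zero, sub_zero]
  refine ⟨g.compDer (KaehlerDifferential.D A C), fun b => ?_⟩
  change g (KaehlerDifferential.D A C (algebraMap B C b)) = D b
  have hb : m (1 ⊗ₜ[B] KaehlerDifferential.D A B b) = KaehlerDifferential.D A C (algebraMap B C b) := by
    change KaehlerDifferential.mapBaseChange A B C _ = _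
    rw [KaehlerDifferential.mapBaseChange_tmul, KaehlerDifferential.map_D, one_smul]
  rw [← hb]
  exact (hg ⟨_, LinearMap.mem_range_self m _⟩).trans ((hφ _).trans (by rw [diffMap_tmul_D, one_smul]))

/-- Every linear map on the imperfection module comes from a derivation. -/
theorem exists_derivation_of_hom (h : ExtendHyp A B C L) (χ : ↥(EGA41.imperfection A B C) →ₗ[C] L) :
    ∃ D : Derivation A B L, ∀ z : ↥(EGA41.imperfection A B C), χ z = diffMap D (z : C ⊗[B] Ω[B⁄A]) := by
  obtain ⟨Φ, hΦ⟩ : ∃ Φ : C ⊗[B] Ω[B⁄A] →ₗ[C] L, ∀ z : ↥(EGA41.imperfection A B C), Φ z = χ z := by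
    rcases h with hI | ⟨⟨r, hr⟩, -⟩
    · exact hI.out (X := ↥(EGA41.imperfection A B C)) (Y := C ⊗[B] Ω[B⁄A]) (EGA41.imperfection A B C).subtype Subtype.val_injective χ
    · exact ⟨χ ∘ₗ r, fun z => congrArg χ (hr z)⟩
  let g : Ω[B⁄A] →ₗ[B] L := (Φ.restrictScalars B) ∘ₗ TensorProduct.mk B C Ω[B⁄A] 1
  refine ⟨g.compDer (KaehlerDifferential.D A B), fun z => ?_⟩
  have hg : (g.compDer (KaehlerDifferential.D A B)).liftKaehlerDifferential = g :=
    Derivation.liftKaehlerDifferential_unique _ _ (Derivation.liftKaehlerDifferential_comp _)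
  have key : ∀ w, diffMap (g.compDer (KaehlerDifferential.D A B)) w = Φ w := by
    intro w
    rw [diffMap, hg]
    induction w using TensorProduct.induction_on with
    | zero => simp only [map_zero]
    | add a b ha hb => simp only [map_add, ha, hb]
    | tmul c ω =>
      rw [LinearMap.liftBaseChange_tmul]
      change c • Φ ((1 : C) ⊗ₜ[B] ω) = Φ (c ⊗ₜ[B] ω)
      rw [← map_smul, TensorProduct.smul_tmul', smul_eq_mul, mul_one]
  rw [key, hΦ]

/-- `ExtendHyp` for formally smooth algebras with projective relative differentials. -/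
theorem extendHyp_of_formallySmooth [Algebra.FormallySmooth A C] [Module.Projective C Ω[C⁄B]] :
    ExtendHyp A B C L := by
  obtain ⟨s, hs⟩ := Module.projective_lifting_property (KaehlerDifferential.map A B C C) LinearMap.id
    (KaehlerDifferential.map_surjective A B C)
  refine Or.inr ⟨?_, s, LinearMap.congr_fun hs⟩
  let m := KaehlerDifferential.mapBaseChange A B C
  let p := LinearMap.id - s ∘ₗ KaehlerDifferential.map A B C C
  have hp : ∀ ω, p ω ∈ LinearMap.range m := fun ω =>
    (KaehlerDifferential.exact_mapBaseChange_map A B C (p ω)).1 (by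
      change KaehlerDifferential.map A B C C (ω - s (KaehlerDifferential.map A B C C ω)) = 0
      rw [map_sub]
      exact sub_eq_zero.2 (LinearMap.congr_fun hs _).symm)
  haveI : Module.Projective C ↥(LinearMap.range m) :=
    Module.Projective.of_split (LinearMap.range m).subtype (p.codRestrict _ hp) (LinearMap.ext fun y => Subtype.ext (by
      change (y : Ω[C⁄A]) - s (KaehlerDifferential.map A B C C y) = y
      rw [(KaehlerDifferential.exact_mapBaseChange_map A B C (y : Ω[C⁄A])).2 y.2, map_zero, sub_zero]))
  obtain ⟨σ, hσ⟩ := Module.projective_lifting_property m.rangeRestrict LinearMap.id m.surjective_rangeRestrict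
  have hq : ∀ w, (LinearMap.id - σ ∘ₗ m.rangeRestrict : C ⊗[B] Ω[B⁄A] →ₗ[C] C ⊗[B] Ω[B⁄A]) w ∈
      EGA41.imperfection A B C := by
    intro w
    change m (w - σ (m.rangeRestrict w)) = 0
    rw [map_sub, sub_eq_zero]
    exact (congrArg Subtype.val (LinearMap.congr_fun hσ (m.rangeRestrict w))).symm
  refine ⟨(LinearMap.id - σ ∘ₗ m.rangeRestrict).codRestrict _ hq, ?_⟩
  intro z
  refine Subtype.ext ?_
  change (z : C ⊗[B] Ω[B⁄A]) - σ (m.rangeRestrict z) = z
  rw [show m.rangeRestrict (z : C ⊗[B] Ω[B⁄A]) = 0 from Subtype.ext z.2, map_zero, sub_zero]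

omit [Module B L] [IsScalarTower B C L] [Module A L] [IsScalarTower A C L] [IsScalarTower A B L] in
theorem isTrivialOver_of_formallySmooth [Algebra.FormallySmooth A C] : X.IsTrivialOver A := by
  let Z := X.restrictBase A
  have hnil : IsNilpotent (RingHom.ker Z.proj.toRingHom) := by
    refine ⟨2, ?_⟩
    rw [pow_two, Ideal.zero_eq_bot, eq_bot_iff, Ideal.mul_le]
    intro x hx y hy
    obtain ⟨z, rfl⟩ := exists_incl Z (RingHom.mem_ker.1 hx)
    obtain ⟨z', rfl⟩ := exists_incl Z (RingHom.mem_ker.1 hy)
    exact Ideal.mem_bot.2 (incl_mul_incl Z z z')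
  let e := Ideal.quotientKerAlgEquivOfSurjective Z.isExtension.proj_surjective
  exact ⟨Algebra.FormallySmooth.lift _ hnil e.symm.toAlgHom, fun c =>
    (congrArg e (Algebra.FormallySmooth.mk_lift _ hnil e.symm.toAlgHom c)).trans (e.apply_symm_apply c)⟩

/-- Extensions with a common characteristic homomorphism are equivalent. -/
theorem nonempty_equiv_of_charHom (h : ExtendHyp A B C L) (Y : Ext B C L) (hX : X.IsTrivialOver A)
    (hY : Y.IsTrivialOver A) (χ : ↥(EGA41.imperfection A B C) →ₗ[C] L) (hXχ : X.IsCharHom A χ)
    (hYχ : Y.IsCharHom A χ) : Nonempty (X.Equiv Y) := by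
  obtain ⟨s, hs, D, hD⟩ := exists_data X hX
  obtain ⟨t, ht, D₂, hD₂⟩ := exists_data Y hY
  have h1 := (isCharHom_iff X s hs D hD χ).1 hXχ
  have h2 := (isCharHom_iff Y t ht D₂ hD₂ χ).1 hYχ
  have hadd : ∀ (D₁ D' : Derivation A B L) (w : C ⊗[B] Ω[B⁄A]),
      diffMap (D₁ + D') w = diffMap (C := C) D₁ w + diffMap D' w := by
    intro D₁ D' w
    induction w using TensorProduct.induction_on with
    | zero => simp only [map_zero, add_zero]
    | add a b ha hb => simp only [map_add, ha, hb]; abel
    | tmul c ω =>
      simp only [diffMap, LinearMap.liftBaseChange_tmul, ← smul_add]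
      congr 1
      have hω : ω ∈ Submodule.span B (Set.range (KaehlerDifferential.D A B)) := by
        rw [KaehlerDifferential.span_range_derivation]; exact Submodule.mem_top
      induction hω using Submodule.span_induction with
      | mem y hy =>
        obtain ⟨y, rfl⟩ := hy
        simp only [Derivation.liftKaehlerDifferential_comp_D, Derivation.add_apply]
      | zero => simp only [map_zero, add_zero]
      | add a b _ _ ha hb => simp only [map_add, ha, hb]; abel
      | smul b y _ hy => simp only [LinearMap.map_smul, hy, smul_add]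
  obtain ⟨D', hD'⟩ := exists_derivation_comp h (D₂ - D) fun z => by
    have := hadd (D₂ - D) D (z : C ⊗[B] Ω[B⁄A])
    rw [sub_add_cancel, ← h2, ← h1] at this
    exact add_right_cancel ((zero_add (χ z)).trans this).symm
  obtain ⟨t', ht'⟩ := exists_add_derivation (Y.restrictBase A) (P := C) t ht D'
  refine exists_equiv_of_data X s hs t' (fun c => ?_) D hD fun b => ?_
  · refine (congrArg (Y.restrictBase A).proj (ht' c)).trans ((map_add (Y.restrictBase A).proj _ _).trans ?_)
    exact (congrArg₂ (· + ·) (ht c) (proj_incl (Y.restrictBase A) _)).trans (add_zero c)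
  · refine (hD₂ b).trans ?_
    change (show Y.E from t (algebraMap B C b)) + Y.incl (D₂ b) =
      (show Y.E from t' (algebraMap B C b)) + Y.incl (D b)
    rw [show (t' (algebraMap B C b) : Y.E) =
      (show Y.E from t (algebraMap B C b)) + Y.incl (D' (algebraMap B C b)) from ht' _, hD', Derivation.sub_apply,
      map_sub, add_assoc, sub_add_cancel]

/-- Existence of an extension with given characteristic homomorphism. -/
theorem exists_isCharHom (h : ExtendHyp A B C L) (χ : ↥(EGA41.imperfection A B C) →ₗ[C] L) :
    ∃ X : Ext B C L, X.IsTrivialOver A ∧ X.IsCharHom A χ := by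
  letI := Exal.opModule C L
  haveI := Exal.isCentralScalar_opModule C L
  obtain ⟨D, hD⟩ := exists_derivation_of_hom h χ
  let Y := Exal.Ext.ofDerivation (C := C) D
  let t : C →ₐ[A] Y.RestrictCarrier A :=
    { toFun := fun c => (TrivSqZeroExt.inl c : TrivSqZeroExt C L)
      map_one' := TrivSqZeroExt.inl_one L
      map_mul' := fun a b => TrivSqZeroExt.inl_mul L a b
      map_zero' := TrivSqZeroExt.inl_zero L
      map_add' := fun a b => TrivSqZeroExt.inl_add L a b
      commutes' := fun a => by
        change TrivSqZeroExt.inl (algebraMap A C a) =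
          TrivSqZeroExt.inl (algebraMap B C (algebraMap A B a)) + TrivSqZeroExt.inr (D (algebraMap A B a))
        rw [D.map_algebraMap, TrivSqZeroExt.inr_zero, add_zero, ← IsScalarTower.algebraMap_apply A B C] }
  exact ⟨Y, ⟨t, fun c => rfl⟩, (isCharHom_iff Y t (fun c => rfl) D (fun b => rfl) χ).2 hD⟩

end GrothLib.ExalLib
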