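import Groth.Agent.Lib.ExalLib.Basic
import Mathlib.RingTheory.Ideal.Quotient.Operations
import Mathlib.Algebra.Module.Torsion.Basic

/-! The extension attached to a lifting problem along a square-zero ideal. -/

universe u w

namespace GrothLib.ExalLib

open Exal

variable {A : Type w} {B C : Type u} [CommRing A] [CommRing B] [Algebra A B] [CommRing C] [Algebra A C]

/-- Pulling back a square-zero quotient along a map from `B`. -/
theorem exists_ext_of_sqZero (I : Ideal C) (hI : I ^ 2 = ⊥) (f : B →ₐ[A] C ⧸ I) :
    ∃ (_ : Module B I) (X : Ext A B I) (pr : X.E →ₐ[A] C),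
      (∀ x, Ideal.Quotient.mk I (pr x) = f (X.proj x)) ∧
      ∀ b c, Ideal.Quotient.mk I c = f b → ∃ x : X.E, pr x = c ∧ X.proj x = b ∧
        ∀ y : X.E, pr y = c → X.proj y = b → y = x := by
  have htor : Module.IsTorsionBySet C I (I : Set C) := by
    rintro ⟨x, hx⟩ ⟨a, ha⟩
    refine Subtype.ext ?_
    have : a * x ∈ I ^ 2 := pow_two I ▸ Ideal.mul_mem_mul ha hx
    rw [hI] at this
    exact this
  letI : Module (C ⧸ I) I := htor.module
  letI : Module B I := Module.compHom I f.toRingHom
  have hsmul : ∀ (b : B) (c : C) (z : I), Ideal.Quotient.mk I c = f b → ((b • z : I) : C) = c * z := by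
    intro b c z h
    change ((f b • z : I) : C) = c * z
    rw [← h]
    rfl
  let S : Subalgebra A (C × B) :=
    AlgHom.equalizer ((Ideal.Quotient.mkₐ A I).comp (AlgHom.fst A C B)) (f.comp (AlgHom.snd A C B))
  let X : Ext A B I :=
    { E := S
      proj := (AlgHom.snd A C B).comp S.val
      incl :=
        { toFun := fun z => ⟨((z : C), 0), by
            change Ideal.Quotient.mk I (z : C) = f 0
            rw [map_zero, Ideal.Quotient.eq_zero_iff_mem]
            exact z.2⟩
          map_zero' := rfl
          map_add' := fun z z' => Subtype.ext (Prod.ext rfl (add_zero (0 : B)).symm) }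
      isExtension :=
        { proj_surjective := fun b => by
            obtain ⟨c, hc⟩ := Ideal.Quotient.mk_surjective (f b)
            exact ⟨⟨(c, b), hc⟩, rfl⟩
          incl_injective := fun z z' h => Subtype.ext (congrArg (fun e : S => e.1.1) h)
          exact := fun x => by
            obtain ⟨⟨c, b⟩, hx⟩ := x
            constructor
            · intro hb
              change b = 0 at hb
              subst hb
              have hc : Ideal.Quotient.mk I c = f 0 := hx
              rw [map_zero, Ideal.Quotient.eq_zero_iff_mem] at hc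
              exact ⟨⟨c, hc⟩, rfl⟩
            · rintro ⟨z, hz⟩
              exact (congrArg (fun e : S => e.1.2) hz).symm
          mul_incl := fun x z => by
            obtain ⟨⟨c, b⟩, hx⟩ := x
            exact Subtype.ext (Prod.ext (hsmul b c z hx).symm (mul_zero b)) } }
  refine ⟨inferInstance, X, (AlgHom.fst A C B).comp S.val, fun x => x.2, fun b c h => ?_⟩
  exact ⟨⟨(c, b), h⟩, rfl, rfl, fun y h1 h2 => Subtype.ext (Prod.ext h1 h2)⟩

end GrothLib.ExalLib
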